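import Groth.Agent.H45.Derived.TruncHomology
import Groth.Agent.H16.TruncChain
import Mathlib.Algebra.Homology.DerivedCategory.FullyFaithful

/-!
# Morphisms from a single object to an object of the derived category, computed on `H^0`

For `P : 𝒜` and `L : D(𝒜)`, if there are no nonzero maps from `P[0]` to `τ_{<0} L` and to
`(τ_{<0} L)[1]`, then `f ↦ H^0(f)` is a bijection `Hom(P[0], L) ≃ Hom(H^0(P[0]), H^0(L))`.
-/

set_option autoImplicit false

universe w v u

open CategoryTheory Category Limits Pretriangulated DerivedCategory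

namespace Groth.Agent.H5.DQ.HomSingle

variable {𝒜 : Type u} [Category.{v} 𝒜] [Abelian 𝒜] [HasDerivedCategory.{w} 𝒜]

section tri

variable {C : Type*} [Category C] [Preadditive C] [HasZeroObject C] [HasShift C ℤ]
  [∀ n : ℤ, (shiftFunctor C n).Additive] [Pretriangulated C]

/-- postcomposition with `mor₂` is injective on maps from `Z` when `Hom(Z, obj₁) = 0` -/
lemma comp_mor₂_injective (T : Triangle C) (hT : T ∈ distTriang C) (Z : C)
    (h : ∀ g : Z ⟶ T.obj₁, g = 0) :
    Function.Injective (fun x : Z ⟶ T.obj₂ => x ≫ T.mor₂) := by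
  intro x y hxy
  have h1 : (x - y) ≫ T.mor₂ = 0 := by
    rw [Preadditive.sub_comp]
    exact sub_eq_zero.2 hxy
  obtain ⟨g, hg⟩ := Triangle.coyoneda_exact₂ _ hT (x - y) h1
  rw [h g, zero_comp] at hg
  exact sub_eq_zero.1 hg

/-- postcomposition with `mor₂` is surjective on maps from `Z` when `Hom(Z, obj₁[1]) = 0` -/
lemma comp_mor₂_surjective (T : Triangle C) (hT : T ∈ distTriang C) (Z : C)
    (h : ∀ g : Z ⟶ T.obj₁⟦(1 : ℤ)⟧, g = 0) :
    Function.Surjective (fun x : Z ⟶ T.obj₂ => x ≫ T.mor₂) := by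
  intro y
  obtain ⟨x, hx⟩ := Triangle.coyoneda_exact₃ _ hT y (h _)
  exact ⟨x, hx.symm⟩

/-- postcomposition with `mor₁` is injective on maps from `Z` when `Hom(Z, obj₃[-1]) = 0` -/
lemma comp_mor₁_injective (T : Triangle C) (hT : T ∈ distTriang C) (Z : C)
    (h : ∀ g : Z ⟶ T.obj₃⟦(-1 : ℤ)⟧, g = 0) :
    Function.Injective (fun x : Z ⟶ T.obj₁ => x ≫ T.mor₁) := by
  intro x y hxy
  have h1 : (x - y) ≫ T.mor₁ = 0 := by
    rw [Preadditive.sub_comp]
    exact sub_eq_zero.2 hxy
  obtain ⟨g, hg⟩ := Triangle.coyoneda_exact₂ _ (inv_rot_of_distTriang _ hT) (x - y) h1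
  have hg' : x - y = 0 := hg.trans (by rw [h g]; exact zero_comp)
  exact sub_eq_zero.1 hg'

/-- postcomposition with `mor₁` is surjective on maps from `Z` when `Hom(Z, obj₃) = 0` -/
lemma comp_mor₁_surjective (T : Triangle C) (hT : T ∈ distTriang C) (Z : C)
    (h : ∀ g : Z ⟶ T.obj₃, g = 0) :
    Function.Surjective (fun x : Z ⟶ T.obj₁ => x ≫ T.mor₁) := by
  intro y
  obtain ⟨x, hx⟩ := Triangle.coyoneda_exact₂ _ hT y (h _)
  exact ⟨x, hx.symm⟩

end tri

/-- the comparison map `Hom(T, L) → Hom(H^0 T, H^0 L)` -/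
noncomputable def cmap (T L : DerivedCategory 𝒜) (f : T ⟶ L) :
    (homologyFunctor 𝒜 0).obj T ⟶ (homologyFunctor 𝒜 0).obj L :=
  (homologyFunctor 𝒜 0).map f

lemma cmap_comp {T L₁ L₂ : DerivedCategory 𝒜} (f : T ⟶ L₁) (u : L₁ ⟶ L₂) :
    cmap T L₂ (f ≫ u) = cmap T L₁ f ≫ (homologyFunctor 𝒜 0).map u := by
  simp [cmap]

/-- reduction along a map inducing a bijection on `Hom(T, -)` and an isomorphism on `H^0` -/
lemma bijective_cmap_iff {T L₁ L₂ : DerivedCategory 𝒜} (u : L₁ ⟶ L₂)
    (hu : Function.Bijective (fun x : T ⟶ L₁ => x ≫ u))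
    (hH : IsIso ((homologyFunctor 𝒜 0).map u)) :
    Function.Bijective (cmap T L₁) ↔ Function.Bijective (cmap T L₂) := by
  have hv : Function.Bijective (fun φ : (homologyFunctor 𝒜 0).obj T ⟶ (homologyFunctor 𝒜 0).obj L₁ =>
      φ ≫ (homologyFunctor 𝒜 0).map u) :=
    ⟨fun a b hab => (cancel_mono _).1 hab,
      fun b => ⟨b ≫ inv ((homologyFunctor 𝒜 0).map u), by simp⟩⟩
  have hcomm : cmap T L₂ ∘ (fun x : T ⟶ L₁ => x ≫ u) =
      (fun φ => φ ≫ (homologyFunctor 𝒜 0).map u) ∘ cmap T L₁ := by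
    funext f
    exact cmap_comp f u
  constructor
  · intro h
    have h1 : Function.Bijective (cmap T L₂ ∘ (fun x : T ⟶ L₁ => x ≫ u)) := by
      rw [hcomm]; exact hv.comp h
    exact (Function.Bijective.of_comp_iff _ hu).1 h1
  · intro h
    have h1 : Function.Bijective ((fun φ => φ ≫ (homologyFunctor 𝒜 0).map u) ∘ cmap T L₁) := by
      rw [← hcomm]; exact h.comp hu
    exact (Function.Bijective.of_comp_iff' hv _).1 h1

/-- the base case: both objects single in degree `0` -/
lemma bijective_cmap_single (P F : 𝒜) :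
    Function.Bijective (cmap ((singleFunctor 𝒜 0).obj P) ((singleFunctor 𝒜 0).obj F)) := by
  let e := singleFunctorCompHomologyFunctorIso 𝒜 0
  have h1 : Function.Bijective ((singleFunctor 𝒜 0).map : (P ⟶ F) → _) :=
    ⟨(singleFunctor 𝒜 0).map_injective, (singleFunctor 𝒜 0).map_surjective⟩
  have h2 : Function.Bijective (fun g : P ⟶ F => e.hom.app P ≫ g ≫ e.inv.app F) :=
    ⟨fun a b hab => by
      have := (cancel_epi _).1 hab
      exact (cancel_mono _).1 this,
     fun b => ⟨e.inv.app P ≫ b ≫ e.hom.app F, by simp⟩⟩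
  have hcomm : cmap ((singleFunctor 𝒜 0).obj P) ((singleFunctor 𝒜 0).obj F) ∘
      (singleFunctor 𝒜 0).map = fun g : P ⟶ F => e.hom.app P ≫ g ≫ e.inv.app F := by
    funext g
    have := e.hom.naturality g
    simp only [Functor.comp_map, Functor.id_map] at this
    simp only [Function.comp, cmap]
    rw [← reassoc_of% this]
    simp
  have h3 : Function.Bijective (cmap ((singleFunctor 𝒜 0).obj P) ((singleFunctor 𝒜 0).obj F) ∘
      (singleFunctor 𝒜 0).map) := by rw [hcomm]; exact h2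
  exact (Function.Bijective.of_comp_iff _ h1).1 h3

lemma bijective_cmap_of_iso {T L₁ L₂ : DerivedCategory 𝒜} (e : L₁ ≅ L₂)
    (h : Function.Bijective (cmap T L₁)) : Function.Bijective (cmap T L₂) := by
  refine (bijective_cmap_iff e.hom ⟨fun a b hab => (cancel_mono _).1 hab,
    fun b => ⟨b ≫ e.inv, by simp⟩⟩ inferInstance).1 h

/-- the case of an object of `D^{≥ 0}` -/
theorem bijective_cmap_of_isGE (P : 𝒜) (L' : DerivedCategory 𝒜) (hL' : L'.IsGE 0) :
    Function.Bijective (cmap ((singleFunctor 𝒜 0).obj P) L') := by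
  have hT2 := (TStructure.t (C := 𝒜)).triangleLTGE_distinguished 1 L'
  have hTle : TStructure.t.IsLE ((singleFunctor 𝒜 0).obj P) 0 :=
    (inferInstance : ((singleFunctor 𝒜 0).obj P).IsLE 0)
  have r2 : Function.Bijective (cmap ((singleFunctor 𝒜 0).obj P)
        ((TStructure.t.truncLT 1).obj L')) ↔
      Function.Bijective (cmap ((singleFunctor 𝒜 0).obj P) L') := by
    refine bijective_cmap_iff ((TStructure.t.truncLTι 1).app L') ⟨?_, ?_⟩
      (Groth.Agent.H45.isIso_homologyMap_truncLTι L' 1 0 (by omega))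
    · refine comp_mor₁_injective _ hT2 _ (fun g => ?_)
      have hge : TStructure.t.IsGE (((TStructure.t.truncGE 1).obj L')⟦(-1 : ℤ)⟧) 2 :=
        TStructure.t.isGE_shift ((TStructure.t.truncGE 1).obj L') 1 (-1) 2 (by omega)
      exact TStructure.t.zero_of_isLE_of_isGE g 0 2 (by omega) hTle hge
    · refine comp_mor₁_surjective _ hT2 _ (fun g => ?_)
      have hge : TStructure.t.IsGE ((TStructure.t.truncGE 1).obj L') 1 := inferInstance
      exact TStructure.t.zero_of_isLE_of_isGE g 0 1 (by omega) hTle hge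
  rw [← r2]
  have hle : TStructure.t.IsLE ((TStructure.t.truncLT (0 + 1)).obj L') 0 := inferInstance
  have hge : TStructure.t.IsGE ((TStructure.t.truncLT 1).obj L') 0 := by
    haveI : TStructure.t.IsGE L' 0 := hL'
    infer_instance
  haveI : ((TStructure.t.truncLT 1).obj L').IsLE 0 := hle
  haveI : ((TStructure.t.truncLT 1).obj L').IsGE 0 := hge
  obtain ⟨F, ⟨e⟩⟩ := exists_iso_singleFunctor_obj_of_isGE_of_isLE
    ((TStructure.t.truncLT 1).obj L') 0
  exact bijective_cmap_of_iso e.symm (bijective_cmap_single P F)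

/-- **Main lemma.** -/
theorem bijective_cmap (P : 𝒜) (L : DerivedCategory 𝒜)
    (h0 : ∀ g : (singleFunctor 𝒜 0).obj P ⟶ (TStructure.t.truncLT 0).obj L, g = 0)
    (h1 : ∀ g : (singleFunctor 𝒜 0).obj P ⟶ ((TStructure.t.truncLT 0).obj L)⟦(1 : ℤ)⟧, g = 0) :
    Function.Bijective (cmap ((singleFunctor 𝒜 0).obj P) L) := by
  -- first reduction: `L → τ_{≥0} L`
  have hT1 := (TStructure.t (C := 𝒜)).triangleLTGE_distinguished 0 L
  have r1 : Function.Bijective (cmap ((singleFunctor 𝒜 0).obj P) L) ↔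
      Function.Bijective (cmap ((singleFunctor 𝒜 0).obj P) ((TStructure.t.truncGE 0).obj L)) :=
    bijective_cmap_iff ((TStructure.t.truncGEπ 0).app L)
      ⟨comp_mor₂_injective _ hT1 _ h0, comp_mor₂_surjective _ hT1 _ h1⟩
      (Groth.Agent.H45.isIso_homologyMap_truncGEπ L 0 0 le_rfl)
  rw [r1]
  exact bijective_cmap_of_isGE P _ inferInstance

end Groth.Agent.H5.DQ.HomSingle
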