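import Groth.Agent.H5.DQ.TensorQCoh
import Groth.Agent.H16.K0DerA
import Groth.Agent.S1105
import Groth.Agent.H5.PerfectTriangle
import Groth.Agent.H35.PerfectBounded
import Mathlib.CategoryTheory.Triangulated.Adjunction

/-!
# `K₀(D_perf(A)) ≃ K₀(D_perf(Spec A))`
-/

set_option autoImplicit false
set_option linter.style.haveILetI false

universe v₁ v₂ u₁ u₂ u

open CategoryTheory Category Limits DerivedCategory AlgebraicGeometry Pretriangulated ZeroObject

attribute [local instance] HasDerivedCategory.standard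

namespace Groth.Agent.H5.DQ.K0Tilde

open Groth.Agent.H16.K0Der KZero

section general

variable {D₁ : Type u₁} [Category.{v₁} D₁] [Preadditive D₁] [HasZeroObject D₁] [HasShift D₁ ℤ]
  [∀ n : ℤ, (shiftFunctor D₁ n).Additive] [Pretriangulated D₁]
  {D₂ : Type u₂} [Category.{v₂} D₂] [Preadditive D₂] [HasZeroObject D₂] [HasShift D₂ ℤ]
  [∀ n : ℤ, (shiftFunctor D₂ n).Additive] [Pretriangulated D₂]
  (G : D₁ ⥤ D₂) [G.CommShift ℤ] [G.IsTriangulated]
  (P₁ : ObjectProperty D₁) (P₂ : ObjectProperty D₂) (h : ∀ K, P₁ K → P₂ (G.obj K))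

/-- the map induced on `K₀` by a triangulated functor -/
noncomputable def K0trMap : K0tr P₁ →+ K0tr P₂ :=
  QuotientAddGroup.lift (relTr P₁)
    (FreeAbelianGroup.lift (fun K : Subtype P₁ => clTr P₂ (G.obj K.1))) (by
      rw [relTr, AddSubgroup.closure_le]
      rintro x ⟨T, h₁, h₂, h₃, hT, rfl⟩
      have hr := clTr_rel P₂ (G.mapTriangle.obj T) (G.map_distinguished T hT) (h _ h₁) (h _ h₂)
        (h _ h₃)
      simp only [SetLike.mem_coe, AddMonoidHom.mem_ker, map_sub, FreeAbelianGroup.lift_apply_of]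
      change clTr P₂ (G.obj T.obj₂) = clTr P₂ (G.obj T.obj₁) + clTr P₂ (G.obj T.obj₃) at hr
      rw [hr]
      abel)

lemma K0trMap_clTr (K : D₁) (hK : P₁ K) :
    K0trMap G P₁ P₂ h (clTr P₁ K) = clTr P₂ (G.obj K) := by
  rw [clTr_eq P₁ hK]
  change (FreeAbelianGroup.lift (fun K : Subtype P₁ => clTr P₂ (G.obj K.1)))
    (FreeAbelianGroup.of ⟨K, hK⟩) = _
  rw [FreeAbelianGroup.lift_apply_of]

include h in
/-- two triangulated functors which are mutually inverse on the objects with the given properties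
induce an isomorphism on `K₀` -/
theorem exists_K0tr_equiv (R : D₂ ⥤ D₁) [R.CommShift ℤ] [R.IsTriangulated]
    (h' : ∀ L, P₂ L → P₁ (R.obj L))
    (h01 : P₁ 0) (h02 : P₂ 0)
    (hu : ∀ K, P₁ K → Nonempty (R.obj (G.obj K) ≅ K))
    (hc : ∀ L, P₂ L → Nonempty (G.obj (R.obj L) ≅ L)) :
    ∃ φ : K0tr P₁ ≃+ K0tr P₂, ∀ K, P₁ K → φ (clTr P₁ K) = clTr P₂ (G.obj K) := by
  let φ := K0trMap G P₁ P₂ h
  let ψ := K0trMap R P₂ P₁ h'
  have h1 : ∀ x, ψ (φ x) = x := by
    intro x
    induction x using QuotientAddGroup.induction_on with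
    | H z =>
      induction z using FreeAbelianGroup.induction_on with
      | zero => simp
      | of K =>
        obtain ⟨K, hK⟩ := K
        have e1 : (QuotientAddGroup.mk (FreeAbelianGroup.of ⟨K, hK⟩) : K0tr P₁) = clTr P₁ K :=
          (clTr_eq P₁ hK).symm
        rw [e1, K0trMap_clTr G P₁ P₂ h K hK, K0trMap_clTr R P₂ P₁ h' _ (h _ hK)]
        obtain ⟨e⟩ := hu K hK
        exact clTr_iso P₁ h01 e (h' _ (h _ hK)) hK
      | neg K ih =>
        rw [QuotientAddGroup.mk_neg, map_neg, map_neg, ih]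
      | add a b iha ihb =>
        rw [QuotientAddGroup.mk_add, map_add, map_add, iha, ihb]
  have h2 : ∀ y, φ (ψ y) = y := by
    intro y
    induction y using QuotientAddGroup.induction_on with
    | H z =>
      induction z using FreeAbelianGroup.induction_on with
      | zero => simp
      | of L =>
        obtain ⟨L, hL⟩ := L
        have e1 : (QuotientAddGroup.mk (FreeAbelianGroup.of ⟨L, hL⟩) : K0tr P₂) = clTr P₂ L :=
          (clTr_eq P₂ hL).symm
        rw [e1, K0trMap_clTr R P₂ P₁ h' L hL, K0trMap_clTr G P₁ P₂ h _ (h' _ hL)]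
        obtain ⟨e⟩ := hc L hL
        exact clTr_iso P₂ h02 e (h _ (h' _ hL)) hL
      | neg K ih =>
        rw [QuotientAddGroup.mk_neg, map_neg, map_neg, ih]
      | add a b iha ihb =>
        rw [QuotientAddGroup.mk_add, map_add, map_add, iha, ihb]
  exact ⟨{ toFun := φ, invFun := ψ, left_inv := h1, right_inv := h2, map_add' := map_add φ },
    fun K hK => K0trMap_clTr G P₁ P₂ h K hK⟩

end general

section perfect

open Scheme.Modules Groth.Agent.H5.DQ.LpullQCoh Groth.Agent.H5.DQ.TensorQCoh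

attribute [local instance] Groth.Agent.H5.Lpull.hasLpull

variable {X : Scheme.{u}}

/-- perfect objects have quasi-coherent cohomology sheaves -/
theorem isQCohD_of_isPerfect (E : DCoh.D X) (hE : DCoh.IsPerfect E) : DCoh.IsQCohD E := by
  refine isQCohD_of_Lpull_openImm E (fun x => ?_)
  obtain ⟨V, hxV, hV⟩ := hE x
  let F := DerivedCategory.Q.objPreimage E
  let eF : DerivedCategory.Q.obj F ≅ E := DerivedCategory.Q.objObjPreimageIso E
  obtain ⟨E', hE', ⟨e⟩⟩ := hV F ⟨eF⟩
  obtain ⟨o⟩ := Groth.Agent.H5.LpullPoint.nonempty_Lpull_open_iso V F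
  refine ⟨V, V.ι, inferInstance, ?_, ?_⟩
  · rw [Scheme.Opens.range_ι]
    exact hxV
  · refine isQCohD_of_iso ((DCoh.Lpull V.ι).mapIso eF.symm ≪≫ o ≪≫ e).symm
      (isQCohD_Q E' (fun i => ?_))
    exact Groth.Agent.H5.PerfectPull.isQuasicoherent_of_isFinLocFree _ (hE'.2 i)

lemma isFinLocFree_of_isZero' (M : X.Modules) (hM : IsZero M) : FlatMod.IsFinLocFree M :=
  Groth.Agent.H5.PCAlong.isFinLocFree_of_isZero _ hM

lemma isPerfect_zero' : DCoh.IsPerfect (0 : DCoh.D X) := by
  intro x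
  refine ⟨⊤, trivial, fun F ⟨eF⟩ => ⟨0, ?_, ⟨IsZero.iso ?_ ?_⟩⟩⟩
  · exact ⟨⟨0, 0, fun i _ => (HomologicalComplex.eval _ _ i).map_isZero (isZero_zero _)⟩,
      fun i => isFinLocFree_of_isZero' _
        ((HomologicalComplex.eval _ _ i).map_isZero (isZero_zero _))⟩
  · exact IsZero.of_iso ((DCoh.restrictD (⊤ : X.Opens).ι).map_isZero (isZero_zero _))
      (((restrictFunctor (⊤ : X.Opens).ι).mapDerivedCategoryFactors.app F).symm ≪≫
        (DCoh.restrictD (⊤ : X.Opens).ι).mapIso eF)
  · exact DerivedCategory.Q.map_isZero (isZero_zero _)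

end perfect

/-- `(M[0])^~ ≅ (M^~)[0]` -/
noncomputable def tildeDSingleIso (R : CommRingCat.{u}) [PreservesFiniteLimits (tilde.functor R)]
    (M : ModuleCat.{u} R) :
    (DCoh.tildeD R).obj ((DerivedCategory.singleFunctor (ModuleCat.{u} R) 0).obj M) ≅
      DCoh.inD (Spec (CommRingCat.of R)) (tilde M) :=
  ((tilde.functor R).mapDerivedCategorySingleFunctor 0).app M

section main

variable (A : Type u) [CommRing A]

open Groth.Agent.H5.DQ.Main

/-- **`K₀(D_perf(A)) ≃ K₀(D_perf(Spec A))`** induced by `M ↦ M^~`. -/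
theorem exists_K0tr_equiv_tildeD [PreservesFiniteLimits (tilde.functor (CommRingCat.of A))] :
    ∃ φ : K0tr (fun K : Dual.D A => DRing.IsPerfect A K) ≃+
        K0tr (fun K : DCoh.D (Spec (CommRingCat.of A)) => DCoh.IsPerfect K),
      ∀ K : Dual.D A, DRing.IsPerfect A K →
        φ (clTr (fun K : Dual.D A => DRing.IsPerfect A K) K) =
          clTr (fun K : DCoh.D (Spec (CommRingCat.of A)) => DCoh.IsPerfect K)
            ((DCoh.tildeD (CommRingCat.of A)).obj K) := by
  let R : CommRingCat.{u} := CommRingCat.of A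
  obtain ⟨hfull, hfaith, hess⟩ := main R
  letI := (adj R).rightAdjointCommShift ℤ
  haveI := (adj R).commShift_of_leftAdjoint ℤ
  haveI : (RΓ R).IsTriangulated := (adj R).isTriangulated_rightAdjoint
  haveI : IsIso (adj R).unit := inferInstance
  have hcounit : ∀ L : DCoh.D (Spec (CommRingCat.of A)), DCoh.IsPerfect L →
      IsIso ((adj R).counit.app L) := by
    intro L hL
    rw [(adj R).isIso_counit_app_iff_mem_essImage]
    exact (hess L).1 (isQCohD_of_isPerfect L hL)
  refine exists_K0tr_equiv (DCoh.tildeD R) _ _ (fun K hK => (Groth.Agent.S1105.result A K).2 hK)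
    (RΓ R) (fun L hL => ?_) (Groth.Agent.H35.isPerfect_of_isZero A _ (isZero_zero _))
    isPerfect_zero' (fun K _ => ⟨(asIso ((adj R).unit.app K)).symm⟩)
    (fun L hL => by
      haveI := hcounit L hL
      exact ⟨asIso ((adj R).counit.app L)⟩)
  haveI := hcounit L hL
  have h1 : DCoh.IsPerfect ((DCoh.tildeD R).obj ((RΓ R).obj L)) :=
    Groth.Agent.H5.PerfectTriangle.isPerfect_of_iso (asIso ((adj R).counit.app L)).symm hL
  exact (Groth.Agent.S1105.result A _).1 h1

end main

end Groth.Agent.H5.DQ.K0Tilde
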