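import Groth.Agent.H5.DQ.Main
import Groth.Agent.H5.TildeLpull
import Groth.Agent.H5.PointSplit
import Groth.Agent.H5.LpullComp
import Groth.Agent.H47.TildeExact
import Groth.Agent.H18.QCohLocal
import Groth.Agent.H35.LTensorRing
import Groth.Agent.H16.ExactDer

/-!
# `Lf^*` preserves `D_QCoh`
-/

set_option autoImplicit false
set_option linter.style.haveILetI false

universe u

open CategoryTheory Category Limits DerivedCategory AlgebraicGeometry

attribute [local instance] HasDerivedCategory.standard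

namespace Groth.Agent.H5.DQ.LpullQCoh

open Scheme.Modules

attribute [local instance] Groth.Agent.H5.Lpull.hasLpull

lemma isQCohD_of_iso {X : Scheme.{u}} {K K' : DCoh.D X} (e : K ≅ K') (h : DCoh.IsQCohD K) :
    DCoh.IsQCohD K' := by
  intro i
  haveI : ((homologyFunctor X.Modules i).obj K).IsQuasicoherent := h i
  exact Groth.Agent.H12.QCohAbelian.isQuasicoherent_of_iso
    ((homologyFunctor X.Modules i).mapIso e)

section OpenImm

variable {W Y : Scheme.{u}} (j : W ⟶ Y) [IsOpenImmersion j]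

/-- the cohomology of the derived restriction along an open immersion is the restriction of the
cohomology -/
theorem nonempty_HD_Lpull_openImm_iso (K : DCoh.D Y) (n : ℤ) :
    Nonempty (DCoh.HD ((DCoh.Lpull j).obj K) n ≅ (restrictFunctor j).obj (DCoh.HD K n)) := by
  let G := DerivedCategory.Q.objPreimage K
  let eG : DerivedCategory.Q.obj G ≅ K := DerivedCategory.Q.objObjPreimageIso K
  obtain ⟨o⟩ := Groth.Agent.H5.PointSplit.nonempty_Lpull_openImm_iso j G
  let R := restrictFunctor j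
  exact ⟨(DerivedCategory.homologyFunctor _ n).mapIso
      ((DCoh.Lpull j).mapIso eG.symm ≪≫ o ≪≫ (R.mapDerivedCategoryFactors.app G).symm) ≪≫
    (Groth.Agent.H16.ExactDer.homologyNatIso R n).app (DerivedCategory.Q.obj G) ≪≫
    R.mapIso ((DerivedCategory.homologyFunctor _ n).mapIso eG)⟩

lemma isQCohD_Lpull_openImm (K : DCoh.D Y) (hK : DCoh.IsQCohD K) :
    DCoh.IsQCohD ((DCoh.Lpull j).obj K) := by
  intro n
  obtain ⟨c⟩ := nonempty_HD_Lpull_openImm_iso j K n
  haveI : (DCoh.HD K n).IsQuasicoherent := hK n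
  exact Groth.Agent.H12.QCohAbelian.isQuasicoherent_of_iso c.symm

end OpenImm

/-- quasi-coherence is local for families of open immersions -/
theorem isQuasicoherent_of_openImm_cover {Y : Scheme.{u}} (M : Y.Modules)
    (h : ∀ y : Y, ∃ (W : Scheme.{u}) (a : W ⟶ Y) (_ : IsOpenImmersion a),
      y ∈ Set.range a.base ∧ ((restrictFunctor a).obj M).IsQuasicoherent) :
    M.IsQuasicoherent := by
  choose W a ha hy hq using h
  let U : Y → Y.Opens := fun y => (a y).opensRange
  have hU : TopologicalSpace.IsOpenCover U := by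
    rw [TopologicalSpace.IsOpenCover, eq_top_iff]
    intro y _
    exact TopologicalSpace.Opens.mem_iSup.2 ⟨y, hy y⟩
  refine Groth.Agent.H18.isQuasicoherent_of_isOpenCover M U hU (fun y => ?_)
  have hc : (U y).ι = (a y).isoOpensRange.inv ≫ a y := ((a y).isoOpensRange_inv_comp).symm
  haveI := hq y
  have e : M.restrict (U y).ι ≅
      (restrictFunctor (a y).isoOpensRange.inv).obj ((restrictFunctor (a y)).obj M) :=
    (restrictFunctorCongr hc).app M ≪≫ (restrictFunctorComp _ _).app M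
  exact Groth.Agent.H12.QCohAbelian.isQuasicoherent_of_iso e.symm

/-- `D_QCoh` is local for families of open immersions (phrased with derived pullbacks) -/
theorem isQCohD_of_Lpull_openImm {Y : Scheme.{u}} (L : DCoh.D Y)
    (h : ∀ y : Y, ∃ (W : Scheme.{u}) (a : W ⟶ Y) (_ : IsOpenImmersion a),
      y ∈ Set.range a.base ∧ DCoh.IsQCohD ((DCoh.Lpull a).obj L)) :
    DCoh.IsQCohD L := by
  intro n
  refine isQuasicoherent_of_openImm_cover _ (fun y => ?_)
  obtain ⟨W, a, ha, hy, hq⟩ := h y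
  refine ⟨W, a, ha, hy, ?_⟩
  obtain ⟨c⟩ := nonempty_HD_Lpull_openImm_iso a L n
  haveI : (DCoh.HD ((DCoh.Lpull a).obj L) n).IsQuasicoherent := hq n
  exact Groth.Agent.H12.QCohAbelian.isQuasicoherent_of_iso c

section Affine

variable {R S : CommRingCat.{u}} (ψ : R ⟶ S)

theorem isQCohD_Lpull_SpecMap (K : DCoh.D (Spec R)) (hK : DCoh.IsQCohD K) :
    DCoh.IsQCohD ((DCoh.Lpull (Spec.map ψ)).obj K) := by
  haveI := Groth.Agent.H47.tilde_preservesFiniteLimits R
  haveI := Groth.Agent.H47.tilde_preservesFiniteLimits S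
  haveI : DRing.HasLBaseChange ψ.hom := Groth.Agent.H35.LT.hasLBaseChange ψ.hom
  obtain ⟨M, ⟨e⟩⟩ := ((Groth.Agent.H5.DQ.Main.main R).2.2 K).1 hK
  obtain ⟨c⟩ := Groth.Agent.H5.TildeLpull.nonempty_iso ψ
  have h1 : DCoh.IsQCohD ((DCoh.tildeD S).obj ((DRing.LBaseChange ψ.hom).obj M)) :=
    ((Groth.Agent.H5.DQ.Main.main S).2.2 _).2 ⟨_, ⟨Iso.refl _⟩⟩
  exact isQCohD_of_iso (c.app M ≪≫ (DCoh.Lpull (Spec.map ψ)).mapIso e) h1

end Affine

/-- **`Lf^*` preserves `D_QCoh`.** -/
theorem isQCohD_Lpull {Y X : Scheme.{u}} (f : Y ⟶ X) [DCoh.HasLpull f] (K : DCoh.D X)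
    (hK : DCoh.IsQCohD K) : DCoh.IsQCohD ((DCoh.Lpull f).obj K) := by
  refine isQCohD_of_Lpull_openImm _ (fun y => ?_)
  obtain ⟨U, hU, hyU, -⟩ := exists_isAffineOpen_mem_and_subset
    (x := f.base y) (U := (⊤ : X.Opens)) trivial
  obtain ⟨V, hV, hyV, hVU⟩ := exists_isAffineOpen_mem_and_subset
    (x := y) (U := f ⁻¹ᵁ U) hyU
  have i : V ≤ f ⁻¹ᵁ U := hVU
  let ψ := f.appLE U V i
  have hsq : Spec.map ψ ≫ hU.fromSpec = hV.fromSpec ≫ f :=
    IsAffineOpen.SpecMap_appLE_fromSpec f hU hV i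
  refine ⟨_, hV.fromSpec, inferInstance, ?_, ?_⟩
  · rw [hV.range_fromSpec]
    exact hyV
  · obtain ⟨c1⟩ := Groth.Agent.H5.LpullComp.nonempty_Lpull_comp_iso hV.fromSpec f
    obtain ⟨c2⟩ := Groth.Agent.H5.LpullComp.nonempty_Lpull_comp_iso (Spec.map ψ) hU.fromSpec
    have h1 := isQCohD_Lpull_SpecMap ψ _ (isQCohD_Lpull_openImm hU.fromSpec K hK)
    exact isQCohD_of_iso (c2.app K ≪≫
      (Groth.Agent.H5.LpullPoint.LpullCongr hsq).app K ≪≫ (c1.app K).symm) h1

end Groth.Agent.H5.DQ.LpullQCoh
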