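import Groth.Agent.H5.DQ.HomSingle
import Groth.Agent.H16.RlimTruncB
import Groth.Agent.H16.RlimMilnor
import Groth.Agent.H33.SchemeDer.Restrict
import Groth.Agent.H6.DerivedProd
import Groth.Agent.H31.ModH
import Groth.Agent.Lead.Coh.AffineOpen
import Groth.Agent.S1007
import Groth.Agent.H5.K0Coh

/-!
# Hypercohomology vanishing on affine schemes

For `X` affine and `L ∈ D_QCoh(O_X)` with `L ∈ D^{≤ b}`, `b < m`: `Hom(O_X[0], L[m]) = 0`.
-/

set_option autoImplicit false
set_option linter.style.haveILetI false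

universe u

open CategoryTheory Category Limits Pretriangulated DerivedCategory AlgebraicGeometry

attribute [local instance] HasDerivedCategory.standard

namespace Groth.Agent.H5.DQ.SchemeSide

variable (X : Scheme.{u})

/-- countable products exist in `D(O_X)` -/
lemma hasProduct_nat (K : ℕ → DCoh.D X) : HasProduct K := by
  choose I f hI hf using fun j : ℕ => Groth.Agent.H33.SchemeDer.hKinj X
    ((DerivedCategory.Q : _ ⥤ DCoh.D X).objPreimage (K j))
  have e : ∀ j, (DerivedCategory.Q : _ ⥤ DCoh.D X).obj (I j) ≅ K j := fun j => by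
    have := hf j
    exact (asIso (DerivedCategory.Q.map (f j))).symm ≪≫
      (DerivedCategory.Q : _ ⥤ DCoh.D X).objObjPreimageIso (K j)
  exact Groth.Agent.H6.DerivedProd.hasProduct_of_iso (Fan.mk (∏ᶜ I) (Pi.π I))
    (productIsProduct I) hI K e

/-- the structure sheaf in degree `0` -/
noncomputable abbrev T₀ : DCoh.D X :=
  (singleFunctor X.Modules 0).obj (Coh.structureModule X)

lemma isLE_T₀ : (T₀ X).IsLE 0 := by
  have h := fun F : X.Modules => (inferInstance : ((singleFunctor X.Modules 0).obj F).IsLE 0)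
  exact h _

lemma isQuasicoherent_of_isZero {F : X.Modules} (h : IsZero F) : F.IsQuasicoherent :=
  PerfectPull.isQuasicoherent_of_isFinLocFree _ (PCAlong.isFinLocFree_of_isZero _ h)

variable {X}

lemma subsingleton_ext_aux (F' : SheafOfModules.{u} X.ringCatSheaf)
    [HasExt.{u} (SheafOfModules.{u} X.ringCatSheaf)] (n : ℕ)
    (h1 : Subsingleton (Sheaf.H.{u} ((SheafOfModules.toSheaf X.ringCatSheaf).obj F') n)) :
    Subsingleton (Abelian.Ext.{u} (SheafOfModules.unit X.ringCatSheaf) F' n) := by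
  obtain ⟨e⟩ := Groth.Agent.H31.ModH.nonempty_ext_unit_addEquiv X.ringCatSheaf F' n
  exact ⟨fun a b => e.injective (@Subsingleton.elim _ h1 _ _)⟩

/-- positive `Ext` from the structure sheaf to a quasi-coherent module vanish on an affine
scheme -/
lemma subsingleton_hom_pos [IsAffine X] (F : X.Modules) [F.IsQuasicoherent] (k : ℕ) :
    Subsingleton (T₀ X ⟶ ((singleFunctor X.Modules 0).obj F)⟦((k + 1 : ℕ) : ℤ)⟧) := by
  have hEI := Groth.Agent.H31.ModExt.enoughInjectives X.ringCatSheaf
  haveI hE : HasExt.{u} (SheafOfModules.{u} X.ringCatSheaf) := hasExt_of_enoughInjectives.{u} _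
  have h1 : Subsingleton (Coh.HH X F (k + 1)) :=
    Groth.Agent.Lead.Coh.subsingleton_HH_of_hVanish_top X F (k + 1)
      (Groth.Agent.Lead.Coh.hVanish_of_isAffineOpen X F (isAffineOpen_top X) k)
  have h2 := subsingleton_ext_aux (X := X) F (k + 1) h1
  exact (Abelian.Ext.homEquiv (C := SheafOfModules.{u} X.ringCatSheaf)
    (X := SheafOfModules.unit X.ringCatSheaf) (Y := F) (n := k + 1)).symm.subsingleton

/-- `Hom(O[0], F[-a][m]) = 0` for `m ≠ a`, `F` quasi-coherent, `X` affine -/
lemma subsingleton_hom_single [IsAffine X] (F : X.Modules) [F.IsQuasicoherent] (a m : ℤ)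
    (h : m ≠ a) : Subsingleton (T₀ X ⟶ ((singleFunctor X.Modules a).obj F)⟦m⟧) := by
  rcases lt_or_gt_of_ne h with h | h
  · constructor
    intro x y
    have h1 : TStructure.t.IsGE (((singleFunctor X.Modules a).obj F)⟦m⟧) (a - m) :=
      TStructure.t.isGE_shift _ a m (a - m) (by omega)
    have h2 : TStructure.t.IsLE (T₀ X) 0 := isLE_T₀ X
    rw [TStructure.t.zero_of_isLE_of_isGE x 0 (a - m) (by omega) h2 h1,
      TStructure.t.zero_of_isLE_of_isGE y 0 (a - m) (by omega) h2 h1]
  · obtain ⟨k, hk⟩ : ∃ k : ℕ, m - a = ((k + 1 : ℕ) : ℤ) :=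
      ⟨(m - a - 1).toNat, by push_cast; omega⟩
    let i2 := ((singleFunctors X.Modules).shiftIso m (-((k + 1 : ℕ) : ℤ)) a (by omega)).app F
    let i3 := ((singleFunctors X.Modules).shiftIso ((k + 1 : ℕ) : ℤ) (-((k + 1 : ℕ) : ℤ)) 0
      (by omega)).app F
    let i : ((singleFunctor X.Modules a).obj F)⟦m⟧ ≅
        ((singleFunctor X.Modules 0).obj F)⟦((k + 1 : ℕ) : ℤ)⟧ := i2 ≪≫ i3.symm
    have h2 := subsingleton_hom_pos F k
    constructor
    intro x y
    have h3 : x ≫ i.hom = y ≫ i.hom := @Subsingleton.elim _ h2 _ _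
    exact (cancel_mono i.hom).1 h3

lemma subsingleton_of_isZero (Z : DCoh.D X) (hZ : IsZero Z) (m : ℤ) :
    Subsingleton (T₀ X ⟶ Z⟦m⟧) := by
  have h : IsZero (Z⟦m⟧) := (shiftFunctor (DCoh.D X) m).map_isZero hZ
  exact ⟨fun x y => h.eq_of_tgt _ _⟩

/-- the bounded case, by induction on the amplitude -/
theorem subsingleton_hom_of_bounded_aux [IsAffine X] (k : ℕ) : ∀ (Z : DCoh.D X) (a : ℤ),
    Z.IsGE a → Z.IsLE (a + k - 1) → DCoh.IsQCohD Z → ∀ m : ℤ, a + k - 1 < m →
      Subsingleton (T₀ X ⟶ Z⟦m⟧) := by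
  induction k with
  | zero =>
    intro Z a hGE hLE _ m _
    exact subsingleton_of_isZero Z (TStructure.t.isZero Z (a + (0 : ℕ) - 1) a (by simp)) m
  | succ k ih =>
    intro Z a hGE hLE hZ m hm
    let b : ℤ := a + k
    have hb : a + ((k + 1 : ℕ) : ℤ) - 1 = b := by simp only [b]; push_cast; omega
    rw [hb] at hLE hm
    haveI : Z.IsLE b := hLE
    haveI : Z.IsGE a := hGE
    have hT := (TStructure.t (C := X.Modules)).triangleLTGE_distinguished b Z
    -- the top piece
    have h3 : Subsingleton (T₀ X ⟶ ((TStructure.t.truncGE b).obj Z)⟦m⟧) := by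
      haveI h31 : ((TStructure.t.truncGE b).obj Z).IsGE b :=
        (inferInstance : TStructure.t.IsGE ((TStructure.t.truncGE b).obj Z) b)
      haveI h32 : ((TStructure.t.truncGE b).obj Z).IsLE b :=
        (inferInstance : TStructure.t.IsLE ((TStructure.t.truncGE b).obj Z) b)
      obtain ⟨F, ⟨e⟩⟩ := exists_iso_singleFunctor_obj_of_isGE_of_isLE
        ((TStructure.t.truncGE b).obj Z) b
      have hiso := Groth.Agent.H45.isIso_homologyMap_truncGEπ Z b b le_rfl
      let eF : F ≅ (homologyFunctor X.Modules b).obj Z :=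
        ((singleFunctorCompHomologyFunctorIso X.Modules b).app F).symm ≪≫
          (homologyFunctor X.Modules b).mapIso e.symm ≪≫
          (asIso ((homologyFunctor X.Modules b).map ((TStructure.t.truncGEπ b).app Z))).symm
      haveI : ((homologyFunctor X.Modules b).obj Z).IsQuasicoherent := hZ b
      haveI : F.IsQuasicoherent := Groth.Agent.H12.QCohAbelian.isQuasicoherent_of_iso eF.symm
      have h4 := subsingleton_hom_single F b m (by omega)
      constructor
      intro x y
      have h5 : x ≫ ((shiftFunctor (DCoh.D X) m).mapIso e).hom =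
          y ≫ ((shiftFunctor (DCoh.D X) m).mapIso e).hom := @Subsingleton.elim _ h4 _ _
      exact (cancel_mono _).1 h5
    -- the lower piece
    have h1 : Subsingleton (T₀ X ⟶ ((TStructure.t.truncLT b).obj Z)⟦m⟧) := by
      refine ih ((TStructure.t.truncLT b).obj Z) a ?_ ?_ ?_ m (by omega)
      · exact (inferInstance : TStructure.t.IsGE ((TStructure.t.truncLT b).obj Z) a)
      · have : a + (k : ℤ) - 1 = b - 1 := by simp only [b]
        rw [this]
        exact (inferInstance : TStructure.t.IsLE ((TStructure.t.truncLT b).obj Z) (b - 1))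
      · intro q
        by_cases hq : q < b
        · have := Groth.Agent.H45.isIso_homologyMap_truncLTι Z b q hq
          haveI : ((homologyFunctor X.Modules q).obj Z).IsQuasicoherent := hZ q
          exact Groth.Agent.H12.QCohAbelian.isQuasicoherent_of_iso
            (M := (homologyFunctor X.Modules q).obj Z)
            (asIso ((homologyFunctor X.Modules q).map ((TStructure.t.truncLTι b).app Z))).symm
        · haveI : ((TStructure.t.truncLT b).obj Z).IsLE (b - 1) :=
            (inferInstance : TStructure.t.IsLE ((TStructure.t.truncLT b).obj Z) (b - 1))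
          exact isQuasicoherent_of_isZero X
            (isZero_of_isLE ((TStructure.t.truncLT b).obj Z) (b - 1) q (by omega))
    have hinj := Groth.Agent.H16.RlimTruncB.comp_injective_of_subsingleton _ hT (T₀ X) m h1
    exact ⟨fun x y => hinj (@Subsingleton.elim _ h3 _ _)⟩

theorem subsingleton_hom_of_bounded [IsAffine X] (Z : DCoh.D X) (a b : ℤ) (hGE : Z.IsGE a)
    (hLE : Z.IsLE b) (hZ : DCoh.IsQCohD Z) (m : ℤ) (hm : b < m) :
    Subsingleton (T₀ X ⟶ Z⟦m⟧) := by
  by_cases hab : b < a
  · exact subsingleton_of_isZero Z (TStructure.t.isZero Z b a hab) m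
  · obtain ⟨k, hk⟩ : ∃ k : ℕ, a + (k : ℤ) - 1 = b := ⟨(b - a + 1).toNat, by omega⟩
    exact subsingleton_hom_of_bounded_aux k Z a hGE (by rw [hk]; exact hLE) hZ m (by omega)

/-- **Vanishing of hypercohomology above the top degree on an affine scheme.** -/
theorem subsingleton_hom_of_isLE [IsAffine X] (L : DCoh.D X) (hL : DCoh.IsQCohD L) (b m : ℤ)
    (hLE : L.IsLE b) (hm : b < m) : Subsingleton (T₀ X ⟶ L⟦m⟧) := by
  haveI : HasProduct (CohCx.truncTower L) := hasProduct_nat X _
  have hR : CohCx.IsRlimVia (CohCx.truncTower L) (CohCx.truncTowerMap L) L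
      (CohCx.toTruncTower L) := Groth.Agent.S1007.result X L hL
  haveI : L.IsLE b := hLE
  have hqc : ∀ n : ℕ, DCoh.IsQCohD (CohCx.truncTower L n) := by
    intro n q
    by_cases hq : -(n : ℤ) ≤ q
    · have := Groth.Agent.H45.isIso_homologyMap_truncGEπ L (-(n : ℤ)) q hq
      haveI : ((homologyFunctor X.Modules q).obj L).IsQuasicoherent := hL q
      exact Groth.Agent.H12.QCohAbelian.isQuasicoherent_of_iso
        (M := (homologyFunctor X.Modules q).obj L)
        (asIso ((homologyFunctor X.Modules q).map ((TStructure.t.truncGEπ (-(n : ℤ))).app L)))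
    · haveI : (CohCx.truncTower L n).IsGE (-(n : ℤ)) :=
        (inferInstance : TStructure.t.IsGE ((TStructure.t.truncGE (-(n : ℤ))).obj L) (-(n : ℤ)))
      exact isQuasicoherent_of_isZero X
        (isZero_of_isGE (CohCx.truncTower L n) (-(n : ℤ)) q (by omega))
  have hbdd : ∀ (n : ℕ) (m' : ℤ), b < m' → Subsingleton (T₀ X ⟶ (CohCx.truncTower L n)⟦m'⟧) :=
    fun n m' hm' => subsingleton_hom_of_bounded _ (-(n : ℤ)) b
      (inferInstance : TStructure.t.IsGE ((TStructure.t.truncGE (-(n : ℤ))).obj L) (-(n : ℤ)))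
      (inferInstance : TStructure.t.IsLE ((TStructure.t.truncGE (-(n : ℤ))).obj L) b)
      (hqc n) m' hm'
  refine ⟨fun x y => ?_⟩
  suffices h : ∀ y : T₀ X ⟶ L⟦m⟧, y = 0 by rw [h x, h y]
  intro y
  refine Groth.Agent.H16.RlimMilnor.eq_zero_of_limOne hR (T₀ X) m ?_ y
    (fun n => @Subsingleton.elim _ (hbdd n m hm) _ _)
  -- vanishing of `R¹lim`
  let A : ℕ → Type (u + 1) := fun n => T₀ X ⟶ (CohCx.truncTower L n)⟦m - 1⟧
  let t : ∀ n, A (n + 1) →+ A n := fun n =>
    { toFun := fun w => w ≫ (CohCx.truncTowerMap L n)⟦m - 1⟧'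
      map_zero' := zero_comp
      map_add' := fun w w' => Preadditive.add_comp _ _ _ w w' _ }
  refine Groth.Agent.H16.RlimTruncB.limOne_of_surj A t (fun n => ?_)
  obtain ⟨F, f, δ, hT, ⟨e⟩⟩ := Groth.Agent.H16.RlimTruncA.exists_triangle L
    (-((n + 1 : ℕ) : ℤ)) (-(n : ℤ)) (by push_cast; ring)
  have hsub : Subsingleton (T₀ X ⟶ F⟦m⟧) := by
    by_cases hma : m = -((n + 1 : ℕ) : ℤ)
    · have hz : IsZero ((homologyFunctor X.Modules (-((n + 1 : ℕ) : ℤ))).obj L) :=
        isZero_of_isLE L b _ (by omega)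
      exact subsingleton_of_isZero F
        (IsZero.of_iso ((singleFunctor X.Modules _).map_isZero hz) e) m
    · haveI : ((homologyFunctor X.Modules (-((n + 1 : ℕ) : ℤ))).obj L).IsQuasicoherent := hL _
      have h4 := subsingleton_hom_single
        ((homologyFunctor X.Modules (-((n + 1 : ℕ) : ℤ))).obj L) (-((n + 1 : ℕ) : ℤ)) m hma
      constructor
      intro x y
      have h5 : x ≫ ((shiftFunctor (DCoh.D X) m).mapIso e).hom =
          y ≫ ((shiftFunctor (DCoh.D X) m).mapIso e).hom := @Subsingleton.elim _ h4 _ _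
      exact (cancel_mono _).1 h5
  exact Groth.Agent.H16.RlimTruncB.comp_surjective_of_subsingleton _ hT (T₀ X) (m - 1) m
    (by omega) hsub

end Groth.Agent.H5.DQ.SchemeSide
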