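import Groth.Agent.H5.DQ.RingSide
import Groth.Agent.H5.DQ.SchemeSide
import Groth.Agent.H45.Derived.UnboundedEquiv2
import Groth.Agent.H33.DerAdjU
import Groth.Agent.H12.QCohExt

/-!
# `D(R) ≌ D_QCoh(O_{Spec R})`

`M ↦ M~` induces a fully faithful functor `D(R) ⥤ D(O_{Spec R})` whose essential image is
`D_QCoh`.
-/

set_option autoImplicit false
set_option linter.style.haveILetI false

universe u

open CategoryTheory Category Limits Pretriangulated DerivedCategory AlgebraicGeometry ZeroObject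

attribute [local instance] HasDerivedCategory.standard

namespace Groth.Agent.H5.DQ.Main

open Groth.Agent.H5.DQ.SchemeSide Groth.Agent.H5.DQ.RingSide

section adjShift

variable {C D : Type*} [Category C] [Category D] [HasShift C ℤ] [HasShift D ℤ]
  {G : C ⥤ D} {RΓ : D ⥤ C} (adj : G ⊣ RΓ) [G.CommShift ℤ]

/-- `Hom(G T, K[j]) ≃ Hom(T, (RΓ K)[j])` -/
noncomputable def shiftEquiv (T : C) (K : D) (j : ℤ) :
    (G.obj T ⟶ K⟦j⟧) ≃ (T ⟶ (RΓ.obj K)⟦j⟧) :=
  letI := adj.rightAdjointCommShift ℤ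
  (adj.homEquiv T (K⟦j⟧)).trans ((RΓ.commShiftIso j).app K).homToEquiv

lemma shiftEquiv_naturality (T : C) {K K' : D} (p : K ⟶ K') (j : ℤ) (y : G.obj T ⟶ K⟦j⟧) :
    shiftEquiv adj T K' j (y ≫ p⟦j⟧') = shiftEquiv adj T K j y ≫ (RΓ.map p)⟦j⟧' := by
  letI := adj.rightAdjointCommShift ℤ
  simp only [shiftEquiv, Equiv.trans_apply, Iso.homToEquiv_apply, Iso.app_hom]
  rw [adj.homEquiv_naturality_right, Category.assoc, Category.assoc]
  congr 1
  exact (RΓ.commShiftIso j).hom.naturality p

include adj in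
lemma bijective_comp_of_bijective (T : C) {K K' : D} (p : K ⟶ K') (j : ℤ)
    (h : Function.Bijective (fun y : G.obj T ⟶ K⟦j⟧ => y ≫ p⟦j⟧')) :
    Function.Bijective (fun x : T ⟶ (RΓ.obj K)⟦j⟧ => x ≫ (RΓ.map p)⟦j⟧') := by
  have : (fun x : T ⟶ (RΓ.obj K)⟦j⟧ => x ≫ (RΓ.map p)⟦j⟧') =
      (shiftEquiv adj T K' j) ∘ (fun y : G.obj T ⟶ K⟦j⟧ => y ≫ p⟦j⟧') ∘
        (shiftEquiv adj T K j).symm := by
    funext x
    simp only [Function.comp_apply, shiftEquiv_naturality, Equiv.apply_symm_apply]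
  rw [this]
  exact (Equiv.bijective _).comp (h.comp (Equiv.bijective _))

end adjShift

section qc

variable (X : Scheme.{u})

/-- quasi-coherence as an object property -/
def qc : ObjectProperty X.Modules := fun M => M.IsQuasicoherent

instance : WSerre.IsWeakSerre (qc X) where
  exists_zero := ⟨0, isZero_zero _, isQuasicoherent_of_isZero X (isZero_zero _)⟩
  kernels_le := by
    rintro _ ⟨f, k, hk, hf⟩
    rename_i M N
    haveI h1 : M.IsQuasicoherent := hf.1
    haveI h2 : N.IsQuasicoherent := hf.2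
    haveI := Groth.Agent.H12.QCohAbelian.isQuasicoherent_kernel f
    have e := IsLimit.conePointUniqueUpToIso (kernelIsKernel f) hk
    exact Groth.Agent.H12.QCohAbelian.isQuasicoherent_of_iso (M := kernel f) e
  cokernels_le := by
    rintro _ ⟨f, k, hk, hf⟩
    rename_i M N
    haveI h1 : M.IsQuasicoherent := hf.1
    haveI h2 : N.IsQuasicoherent := hf.2
    haveI := Groth.Agent.H12.QCohAbelian.isQuasicoherent_cokernel f
    have e := IsColimit.coconePointUniqueUpToIso (cokernelIsCokernel f) hk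
    exact Groth.Agent.H12.QCohAbelian.isQuasicoherent_of_iso (M := cokernel f) e
  prop_X₂_of_shortExact {S} hS h₁ h₃ := by
    haveI : S.X₁.IsQuasicoherent := h₁
    haveI : S.X₃.IsQuasicoherent := h₃
    exact Groth.Agent.H12.QCohExt.isQuasicoherent_of_shortExact S hS

end qc

section top

variable (ℬ : Type*) [Category ℬ] [Abelian ℬ]

/-- the trivial object property -/
def allP : ObjectProperty ℬ := fun _ => True

instance : WSerre.IsWeakSerre (allP ℬ) where
  exists_zero := ⟨0, isZero_zero _, trivial⟩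
  kernels_le := fun _ _ => trivial
  cokernels_le := fun _ _ => trivial
  prop_X₂_of_shortExact := fun _ _ _ => trivial

end top

section ring

variable (R : CommRingCat.{u}) [PreservesFiniteLimits (tilde.functor R)]

/-- `Spec R` -/
noncomputable abbrev SpecR : Scheme.{u} := Spec (CommRingCat.of R)

/-- global sections -/
noncomputable abbrev Γm : (SpecR R).Modules ⥤ ModuleCat.{u} R := moduleSpecΓFunctor (R := R)

instance : (Γm R).Additive := (tilde.adjunction (R := R)).right_adjoint_additive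

instance : ((Γm R).mapHomotopyCategory (ComplexShape.up ℤ) ⋙
    DerivedCategory.Qh).HasRightDerivedFunctor
    (HomotopyCategory.quasiIso (SpecR R).Modules (ComplexShape.up ℤ)) :=
  Groth.Agent.H5.KInjDeriv.hasRightDerivedFunctor (Groth.Agent.H33.SchemeDer.hKinj (SpecR R)) _

/-- derived global sections -/
noncomputable abbrev RΓ : DCoh.D (SpecR R) ⥤ DerivedCategory (ModuleCat.{u} R) :=
  Groth.Agent.H33.DerAdjU.RR (Γm R)

/-- the derived adjunction -/
noncomputable def adj : DCoh.tildeD R ⊣ RΓ R :=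
  Groth.Agent.H33.DerAdjU.derivedAdj (tilde.adjunction (R := R))
    (Groth.Agent.H33.SchemeDer.hKinj (SpecR R))

/-- `R[0]` -/
noncomputable abbrev TR : DerivedCategory (ModuleCat.{u} R) :=
  (singleFunctor (ModuleCat.{u} R) 0).obj (ModuleCat.of R R)

/-- `G(R[0]) ≅ O[0]` -/
noncomputable def GTRIso : (DCoh.tildeD R).obj (TR R) ≅ T₀ (SpecR R) :=
  ((tilde.functor R).mapDerivedCategorySingleFunctor 0).app (ModuleCat.of R R) ≪≫
    (singleFunctor (SpecR R).Modules 0).mapIso (tildeSelf (R := R))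

lemma subsingleton_hom_GTR (L : DCoh.D (SpecR R)) (hL : DCoh.IsQCohD L) (b m : ℤ)
    (hLE : L.IsLE b) (hm : b < m) :
    Subsingleton ((DCoh.tildeD R).obj (TR R) ⟶ L⟦m⟧) := by
  have h := subsingleton_hom_of_isLE L hL b m hLE hm
  exact ⟨fun x y => (cancel_epi (GTRIso R).inv).1 (@Subsingleton.elim _ h _ _)⟩

lemma stabHyp : Groth.Agent.H45.UEq.StabHyp (RΓ R) (qc (SpecR R)) := by
  intro K hK j
  refine ⟨(-j).toNat, fun n hn => ?_⟩
  apply isIso_homologyMap_of_bijective
  apply bijective_comp_of_bijective (adj R) (TR R)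
  have hT := (TStructure.t (C := (SpecR R).Modules)).triangleLTGE_distinguished (-(n : ℤ)) K
  have hLE : ((TStructure.t.truncLT (-(n : ℤ))).obj K).IsLE (-(n : ℤ) - 1) :=
    (inferInstance : TStructure.t.IsLE ((TStructure.t.truncLT (-(n : ℤ))).obj K) (-(n : ℤ) - 1))
  have hqc : DCoh.IsQCohD ((TStructure.t.truncLT (-(n : ℤ))).obj K) := by
    intro q
    by_cases hq : q < -(n : ℤ)
    · have := Groth.Agent.H45.isIso_homologyMap_truncLTι K (-(n : ℤ)) q hq
      haveI : ((homologyFunctor (SpecR R).Modules q).obj K).IsQuasicoherent := hK q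
      exact Groth.Agent.H12.QCohAbelian.isQuasicoherent_of_iso
        (M := (homologyFunctor (SpecR R).Modules q).obj K)
        (asIso ((homologyFunctor (SpecR R).Modules q).map
          ((TStructure.t.truncLTι (-(n : ℤ))).app K))).symm
    · exact isQuasicoherent_of_isZero _
        (isZero_of_isLE ((TStructure.t.truncLT (-(n : ℤ))).obj K) (-(n : ℤ) - 1) q (by omega))
  have h1 := subsingleton_hom_GTR R _ hqc (-(n : ℤ) - 1) j hLE (by omega)
  have h2 := subsingleton_hom_GTR R _ hqc (-(n : ℤ) - 1) (j + 1) hLE (by omega)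
  exact ⟨Groth.Agent.H16.RlimTruncB.comp_injective_of_subsingleton _ hT _ j h1,
    Groth.Agent.H16.RlimTruncB.comp_surjective_of_subsingleton _ hT _ j (j + 1) rfl h2⟩

instance : (singleFunctor (ModuleCat.{u} R) 0 ⋙ DCoh.tildeD R).Full :=
  Functor.Full.of_iso ((tilde.functor R).mapDerivedCategorySingleFunctor 0).symm

instance : (singleFunctor (ModuleCat.{u} R) 0 ⋙ DCoh.tildeD R).Faithful :=
  Functor.Faithful.of_iso ((tilde.functor R).mapDerivedCategorySingleFunctor 0).symm

lemma bijective_map_single (P F' : ModuleCat.{u} R) :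
    Function.Bijective (fun x : (singleFunctor (ModuleCat.{u} R) 0).obj P ⟶
      (singleFunctor (ModuleCat.{u} R) 0).obj F' => (DCoh.tildeD R).map x) := by
  constructor
  · intro x x' h
    obtain ⟨y, rfl⟩ := (singleFunctor (ModuleCat.{u} R) 0).map_surjective x
    obtain ⟨y', rfl⟩ := (singleFunctor (ModuleCat.{u} R) 0).map_surjective x'
    have : y = y' := (singleFunctor (ModuleCat.{u} R) 0 ⋙ DCoh.tildeD R).map_injective h
    rw [this]
  · intro z
    obtain ⟨y, hy⟩ := (singleFunctor (ModuleCat.{u} R) 0 ⋙ DCoh.tildeD R).map_surjective z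
    exact ⟨(singleFunctor (ModuleCat.{u} R) 0).map y, hy⟩

omit [PreservesFiniteLimits (tilde.functor R)] in
/-- `Hom(R[0], F'[0][j]) = 0` for `j ≠ 0` -/
lemma subsingleton_hom_TR (F' : ModuleCat.{u} R) (j : ℤ) (hj : j ≠ 0) :
    Subsingleton (TR R ⟶ ((singleFunctor (ModuleCat.{u} R) 0).obj F')⟦j⟧) := by
  haveI : Projective (ModuleCat.of R R) := ModuleCat.projective_of_free (Module.Free.of_basis
    (Module.Basis.singleton Unit R)).chooseBasis
  have c1 := bijective_cmap_projective (ModuleCat.of R R)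
    (((singleFunctor (ModuleCat.{u} R) 0).obj F')⟦j⟧)
  have hz : IsZero ((homologyFunctor (ModuleCat.{u} R) 0).obj
      (((singleFunctor (ModuleCat.{u} R) 0).obj F')⟦j⟧)) := by
    have e := ((homologyFunctor (ModuleCat.{u} R) 0).shiftIso j 0 j (by omega)).app
      ((singleFunctor (ModuleCat.{u} R) 0).obj F')
    refine IsZero.of_iso ?_ e
    have hle := fun M : ModuleCat.{u} R =>
      (inferInstance : ((singleFunctor (ModuleCat.{u} R) 0).obj M).IsLE 0)
    have hge := fun M : ModuleCat.{u} R =>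
      (inferInstance : ((singleFunctor (ModuleCat.{u} R) 0).obj M).IsGE 0)
    rcases lt_or_gt_of_ne hj with h | h
    · exact isZero_of_isGE _ 0 j h
    · exact isZero_of_isLE _ 0 j h
  exact ⟨fun x y => c1.1 (hz.eq_of_tgt _ _)⟩

/-- `Hom(G R[0], (G F'[0])[j]) = 0` for `j ≠ 0` -/
lemma subsingleton_hom_GTR_single (F' : ModuleCat.{u} R) (j : ℤ) (hj : j ≠ 0) :
    Subsingleton ((DCoh.tildeD R).obj (TR R) ⟶
      ((DCoh.tildeD R).obj ((singleFunctor (ModuleCat.{u} R) 0).obj F'))⟦j⟧) := by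
  have h := subsingleton_hom_single ((tilde.functor R).obj F') 0 j hj
  let e : (DCoh.tildeD R).obj ((singleFunctor (ModuleCat.{u} R) 0).obj F') ≅
      (singleFunctor (SpecR R).Modules 0).obj ((tilde.functor R).obj F') :=
    ((tilde.functor R).mapDerivedCategorySingleFunctor 0).app F'
  refine ⟨fun x y => ?_⟩
  have h1 : (GTRIso R).inv ≫ x ≫ e.hom⟦j⟧' = (GTRIso R).inv ≫ y ≫ e.hom⟦j⟧' :=
    @Subsingleton.elim _ h _ _
  have h2 := (cancel_epi (GTRIso R).inv).1 h1
  exact (cancel_mono (e.hom⟦j⟧')).1 h2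

lemma isIso_unit_single (F' : ModuleCat.{u} R) :
    IsIso ((adj R).unit.app ((singleFunctor (ModuleCat.{u} R) 0).obj F')) := by
  rw [DerivedCategory.isIso_iff]
  intro j
  by_cases hj : j = 0
  · subst hj
    apply isIso_homologyMap_zero_of_bijective
    have : (fun x : TR R ⟶ (singleFunctor (ModuleCat.{u} R) 0).obj F' =>
        x ≫ (adj R).unit.app ((singleFunctor (ModuleCat.{u} R) 0).obj F')) =
        ((adj R).homEquiv (TR R) _) ∘ (fun x => (DCoh.tildeD R).map x) := by
      funext x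
      simp only [Function.comp_apply, Adjunction.homEquiv_unit]
      exact ((adj R).unit.naturality x)
    have hb := (Equiv.bijective ((adj R).homEquiv (TR R) _)).comp
      (bijective_map_single R (ModuleCat.of R R) F')
    rw [← this] at hb
    exact hb
  · apply isIso_homologyMap_of_bijective
    have h1 := subsingleton_hom_TR R F' j hj
    have h2' := subsingleton_hom_GTR_single R F' j hj
    have h2 : Subsingleton (TR R ⟶ ((RΓ R).obj ((DCoh.tildeD R).obj
        ((singleFunctor (ModuleCat.{u} R) 0).obj F')))⟦j⟧) :=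
      (shiftEquiv (adj R) (TR R) _ j).symm.subsingleton
    exact ⟨fun a b _ => @Subsingleton.elim _ h1 _ _, fun b => ⟨0, @Subsingleton.elim _ h2 _ _⟩⟩

omit [PreservesFiniteLimits (tilde.functor R)] in
lemma exists_tilde_iso (M : (SpecR R).Modules) (hM : M.IsQuasicoherent) :
    ∃ F' : ModuleCat.{u} R, allP (ModuleCat.{u} R) F' ∧
      Nonempty ((tilde.functor R).obj F' ≅ M) := by
  haveI := hM
  have h : IsIso M.fromTildeΓ := inferInstance
  rw [isIso_fromTildeΓ_iff] at h
  obtain ⟨F', ⟨e⟩⟩ := h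
  exact ⟨F', trivial, ⟨e⟩⟩

/-- **`D(R) ≌ D_QCoh(O_{Spec R})`.** -/
theorem main : (DCoh.tildeD R).Full ∧ (DCoh.tildeD R).Faithful ∧
    ∀ K : DCoh.D (Spec (CommRingCat.of R)),
      DCoh.IsQCohD K ↔ ∃ M, Nonempty ((DCoh.tildeD R).obj M ≅ K) := by
  obtain ⟨h1, h2⟩ := Groth.Agent.H45.UEq.equivalence_cohIn' (tilde.functor R) (adj R)
    (qc (SpecR R)) (allP (ModuleCat.{u} R))
    (fun F' _ => (inferInstance : ((tilde.functor R).obj F').IsQuasicoherent))
    (exists_tilde_iso R) (fun F' _ => isIso_unit_single R F') (stabHyp R)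
  have hunit : ∀ Y, IsIso ((adj R).unit.app Y) := fun Y => (h1 Y (fun _ => trivial)).2
  haveI : IsIso (adj R).unit := NatIso.isIso_of_isIso_app _
  refine ⟨(adj R).fullyFaithfulLOfIsIsoUnit.full, (adj R).fullyFaithfulLOfIsIsoUnit.faithful,
    fun K => ⟨fun hK => ?_, ?_⟩⟩
  · haveI := (h2 K hK).2
    exact ⟨(RΓ R).obj K, ⟨asIso ((adj R).counit.app K)⟩⟩
  · rintro ⟨M, ⟨e⟩⟩
    have h3 := (h1 M (fun _ => trivial)).1
    intro i
    haveI : ((homologyFunctor (SpecR R).Modules i).obj ((DCoh.tildeD R).obj M)).IsQuasicoherent :=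
      h3 i
    exact Groth.Agent.H12.QCohAbelian.isQuasicoherent_of_iso
      ((homologyFunctor (SpecR R).Modules i).mapIso e)

end ring

end Groth.Agent.H5.DQ.Main
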