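import Groth.Agent.H5.DQ.HomSingle
import Groth.Agent.H33.BrownGA.CompactSingle

/-!
# `Hom_{D(𝒜)}(P[0], L) ≃ Hom(P, H^0 L)` for projective `P`, and detection of isomorphisms on
cohomology in `D(ModuleCat R)` by maps from `R[0]`
-/

set_option autoImplicit false

universe w v u

open CategoryTheory Category Limits Pretriangulated DerivedCategory

namespace Groth.Agent.H5.DQ.RingSide

open Groth.Agent.H5.DQ.HomSingle

section general

variable {𝒜 : Type u} [Category.{v} 𝒜] [Abelian 𝒜] [HasDerivedCategory.{w} 𝒜]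

/-- no nonzero maps from a projective object in degree `0` to an object of `D^{≤ -1}` -/
lemma eq_zero_of_projective (P : 𝒜) [Projective P] (Z : DerivedCategory 𝒜) (hZ : Z.IsLE (-1))
    (g : (singleFunctor 𝒜 0).obj P ⟶ Z) : g = 0 := by
  obtain ⟨E, _, ⟨e⟩⟩ := exists_iso_Q_obj_of_isLE Z (-1)
  let i := (singleFunctorIsoCompQ 𝒜 0).app P
  obtain ⟨f, hf⟩ := Groth.Agent.H33.BrownGA.exists_Q_map_eq_of_isKProjective
    ((CochainComplex.singleFunctor 𝒜 0).obj P) E (i.inv ≫ g ≫ e.hom)
  have hf0 : f = 0 := by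
    ext n
    by_cases hn : n = 0
    · subst hn
      exact (E.isZero_of_isStrictlyLE (-1) 0 (by omega)).eq_of_tgt _ _
    · exact (HomologicalComplex.isZero_single_obj_X (ComplexShape.up ℤ) 0 P n hn).eq_of_src _ _
  rw [hf0, Functor.map_zero] at hf
  have h1 : g = i.hom ≫ (i.inv ≫ g ≫ e.hom) ≫ e.inv := by simp
  rw [h1, ← hf, zero_comp, comp_zero]

/-- `f ↦ H^0(f)` is bijective on maps from a projective object placed in degree `0` -/
theorem bijective_cmap_projective (P : 𝒜) [Projective P] (L : DerivedCategory 𝒜) :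
    Function.Bijective (cmap ((singleFunctor 𝒜 0).obj P) L) := by
  refine bijective_cmap P L (fun g => eq_zero_of_projective P _ ?_ g)
    (fun g => eq_zero_of_projective P _ ?_ g)
  · exact (inferInstance : TStructure.t.IsLE ((TStructure.t.truncLT 0).obj L) (0 - 1))
  · have h : TStructure.t.IsLE ((TStructure.t.truncLT 0).obj L) (0 - 1) := inferInstance
    have h2 : TStructure.t.IsLE (((TStructure.t.truncLT 0).obj L)⟦(1 : ℤ)⟧) (-2) :=
      TStructure.t.isLE_shift _ (0 - 1) 1 (-2) (by omega)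
    exact TStructure.t.isLE_of_le _ (-2) (-1) (by omega)

end general

section modules

variable {R : Type u} [CommRing R]

attribute [local instance] HasDerivedCategory.standard

/-- a morphism of modules inducing a bijection on maps from (a copy of) `R` is an isomorphism -/
lemma isIso_of_bijective_comp {N N' : ModuleCat.{u} R} (g : N ⟶ N') (R' : ModuleCat.{u} R)
    (e : R' ≅ ModuleCat.of R R)
    (h : Function.Bijective (fun φ : R' ⟶ N => φ ≫ g)) : IsIso g := by
  have h' : Function.Bijective (fun φ : ModuleCat.of R R ⟶ N => φ ≫ g) := by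
    constructor
    · intro a b hab
      have := h.1 (a₁ := e.hom ≫ a) (a₂ := e.hom ≫ b) (by
        simp only [Category.assoc]; exact congrArg (e.hom ≫ ·) hab)
      exact (cancel_epi e.hom).1 this
    · intro b
      obtain ⟨a, ha⟩ := h.2 (e.hom ≫ b)
      refine ⟨e.inv ≫ a, ?_⟩
      simp only [Category.assoc]
      have ha' : a ≫ g = e.hom ≫ b := ha
      rw [ha', Iso.inv_hom_id_assoc]
  rw [ConcreteCategory.isIso_iff_bijective]
  constructor
  · intro x y hxy
    let φx : ModuleCat.of R R ⟶ N := ModuleCat.ofHom (LinearMap.toSpanSingleton R N x)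
    let φy : ModuleCat.of R R ⟶ N := ModuleCat.ofHom (LinearMap.toSpanSingleton R N y)
    have h1 : φx ≫ g = φy ≫ g := by
      ext
      simp only [ModuleCat.hom_comp, ModuleCat.hom_ofHom, LinearMap.coe_comp, Function.comp_apply,
        LinearMap.toSpanSingleton_apply, one_smul, φx, φy]
      exact hxy
    have h2 := h'.1 h1
    have h3 := congrArg (fun ψ : ModuleCat.of R R ⟶ N => ψ.hom (1 : R)) h2
    simpa [φx, φy] using h3
  · intro y
    obtain ⟨φ, hφ⟩ := h'.2 (ModuleCat.ofHom (LinearMap.toSpanSingleton R N' y))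
    refine ⟨φ.hom (1 : R), ?_⟩
    have h3 := congrArg (fun ψ : ModuleCat.of R R ⟶ N' => ψ.hom (1 : R)) hφ
    simpa using h3

/-- **Detection of isomorphisms on `H^0`** in `D(R)` by maps from `R[0]`. -/
theorem isIso_homologyMap_zero_of_bijective {M M' : DerivedCategory (ModuleCat.{u} R)}
    (φ : M ⟶ M')
    (h : Function.Bijective
      (fun x : (singleFunctor (ModuleCat.{u} R) 0).obj (ModuleCat.of R R) ⟶ M => x ≫ φ)) :
    IsIso ((homologyFunctor (ModuleCat.{u} R) 0).map φ) := by
  haveI : Projective (ModuleCat.of R R) := ModuleCat.projective_of_free (Module.Free.of_basis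
    (Module.Basis.singleton Unit R)).chooseBasis
  set T := (singleFunctor (ModuleCat.{u} R) 0).obj (ModuleCat.of R R)
  have c1 := bijective_cmap_projective (ModuleCat.of R R) M
  have c2 := bijective_cmap_projective (ModuleCat.of R R) M'
  have hcomm : cmap T M' ∘ (fun x : T ⟶ M => x ≫ φ) =
      (fun ψ => ψ ≫ (homologyFunctor (ModuleCat.{u} R) 0).map φ) ∘ cmap T M := by
    funext f
    exact cmap_comp f _
  have h1 : Function.Bijective
      ((fun ψ : (homologyFunctor (ModuleCat.{u} R) 0).obj T ⟶ _ =>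
        ψ ≫ (homologyFunctor (ModuleCat.{u} R) 0).map φ) ∘ cmap T M) := by
    rw [← hcomm]; exact c2.comp h
  have h2 : Function.Bijective
      (fun ψ : (homologyFunctor (ModuleCat.{u} R) 0).obj T ⟶ _ =>
        ψ ≫ (homologyFunctor (ModuleCat.{u} R) 0).map φ) :=
    (Function.Bijective.of_comp_iff _ c1).1 h1
  exact isIso_of_bijective_comp _ _
    ((singleFunctorCompHomologyFunctorIso (ModuleCat.{u} R) 0).app (ModuleCat.of R R)) h2

/-- **Detection of isomorphisms on `H^j`** in `D(R)` by maps from `R[0]` into the `j`-th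
shifts. -/
theorem isIso_homologyMap_of_bijective {M M' : DerivedCategory (ModuleCat.{u} R)} (φ : M ⟶ M')
    (j : ℤ)
    (h : Function.Bijective
      (fun x : (singleFunctor (ModuleCat.{u} R) 0).obj (ModuleCat.of R R) ⟶ M⟦j⟧ => x ≫ φ⟦j⟧')) :
    IsIso ((homologyFunctor (ModuleCat.{u} R) j).map φ) := by
  haveI : Projective (ModuleCat.of R R) := ModuleCat.projective_of_free (Module.Free.of_basis
    (Module.Basis.singleton Unit R)).chooseBasis
  set T := (singleFunctor (ModuleCat.{u} R) 0).obj (ModuleCat.of R R)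
  have c1 := bijective_cmap_projective (ModuleCat.of R R) (M⟦j⟧)
  have c2 := bijective_cmap_projective (ModuleCat.of R R) (M'⟦j⟧)
  have hcomm : cmap T (M'⟦j⟧) ∘ (fun x : T ⟶ M⟦j⟧ => x ≫ φ⟦j⟧') =
      (fun ψ => ψ ≫ (homologyFunctor (ModuleCat.{u} R) 0).map (φ⟦j⟧')) ∘ cmap T (M⟦j⟧) := by
    funext f
    exact cmap_comp f _
  have h1 : Function.Bijective
      ((fun ψ : (homologyFunctor (ModuleCat.{u} R) 0).obj T ⟶ _ =>
        ψ ≫ (homologyFunctor (ModuleCat.{u} R) 0).map (φ⟦j⟧')) ∘ cmap T (M⟦j⟧)) := by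
    rw [← hcomm]; exact c2.comp h
  have h2 : Function.Bijective
      (fun ψ : (homologyFunctor (ModuleCat.{u} R) 0).obj T ⟶ _ =>
        ψ ≫ (homologyFunctor (ModuleCat.{u} R) 0).map (φ⟦j⟧')) :=
    (Function.Bijective.of_comp_iff _ c1).1 h1
  have h3 : IsIso ((homologyFunctor (ModuleCat.{u} R) 0).map (φ⟦j⟧')) :=
    isIso_of_bijective_comp _ _
      ((singleFunctorCompHomologyFunctorIso (ModuleCat.{u} R) 0).app (ModuleCat.of R R)) h2
  have h4 : IsIso ((shiftFunctor (DerivedCategory (ModuleCat.{u} R)) j ⋙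
      homologyFunctor (ModuleCat.{u} R) 0).map φ) := h3
  exact (NatIso.isIso_map_iff ((homologyFunctor (ModuleCat.{u} R) 0).shiftIso j 0 j (by omega)) φ).1 h4

end modules

end Groth.Agent.H5.DQ.RingSide
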