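import Groth.Agent.H5.Stalk.PushClosed
import Groth.Agent.H5.Stalk.TildeStalk
import Groth.Agent.H8.QcqsPush

/-!
# Every module over a local ring of a quasi-separated scheme is the stalk of a quasi-coherent module
-/

set_option autoImplicit false
universe u
open CategoryTheory CategoryTheory.Limits AlgebraicGeometry TopologicalSpace Opposite

namespace Groth.Agent.H5.DQ.StalkRealize

open Groth.Agent.H5.Stalk

/-- restriction of scalars along a localization is full -/
lemma full_restrictScalars_of_isLocalization {R B : Type u} [CommRing R] [CommRing B]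
    (θ : R →+* B) (S : Submonoid R) (h : @IsLocalization R _ S B _ θ.toAlgebra) :
    (ModuleCat.restrictScalars.{u} θ).Full := by
  letI := θ.toAlgebra
  refine ⟨fun {N N'} g => ?_⟩
  letI : Module R N := Module.compHom N θ
  letI : Module R N' := Module.compHom N' θ
  haveI : IsScalarTower R B N := IsScalarTower.of_algebraMap_smul (fun r n => rfl)
  haveI : IsScalarTower R B N' := IsScalarTower.of_algebraMap_smul (fun r n => rfl)
  let g' : N →ₗ[R] N' := g.hom
  exact ⟨ModuleCat.ofHom (LinearMap.extendScalarsOfIsLocalization S B g'), by ext; rfl⟩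

/-- the counit of extension/restriction of scalars along a localization is an isomorphism -/
lemma isIso_counit_of_isLocalization {R B : Type u} [CommRing R] [CommRing B]
    (θ : R →+* B) (S : Submonoid R) (h : @IsLocalization R _ S B _ θ.toAlgebra)
    (N : ModuleCat.{u} B) :
    IsIso ((ModuleCat.extendRestrictScalarsAdj.{u} θ).counit.app N) := by
  haveI := full_restrictScalars_of_isLocalization θ S h
  infer_instance

/-- the local ring of `Spec R` at `x` is the localization of `R` at the prime `x` -/
lemma isLocalization_toStalkHom (R : CommRingCat.{u}) (x : Spec (CommRingCat.of R)) :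
    @IsLocalization R _ (show PrimeSpectrum R from x).asIdeal.primeCompl
      ((Spec (CommRingCat.of R)).presheaf.stalk x) _ (toStalkHom R x).toAlgebra :=
  StructureSheaf.IsLocalization.to_stalk R x

variable {X : Scheme.{u}}

lemma isQuasicoherent_tilde (R : CommRingCat.{u}) (M : ModuleCat.{u} R) :
    ((tilde.functor R).obj M).IsQuasicoherent := inferInstance

/-- the stalk of `j_* (M^~)` at a point of an affine open immersion `j : Spec R ⟶ X` realizes any
module over the local ring -/
theorem exists_stalk_iso_of_openImm (R : CommRingCat.{u}) (j : Spec (CommRingCat.of R) ⟶ X)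
    [IsOpenImmersion j] (p : Spec (CommRingCat.of R))
    (N : ModuleCat.{u} (X.presheaf.stalk (j p))) :
    ∃ M : ModuleCat.{u} R, Nonempty ((stalkFunctor (j p)).obj
      ((Scheme.Modules.pushforward j).obj ((tilde.functor R).obj M)) ≅ N) := by
  let φ : X.presheaf.stalk (j p) →+* (Spec (CommRingCat.of R)).presheaf.stalk p :=
    (j.stalkMap p).hom
  let ψ : (Spec (CommRingCat.of R)).presheaf.stalk p →+* X.presheaf.stalk (j p) :=
    (inv (j.stalkMap p)).hom
  have hψφ : ψ.comp φ = RingHom.id _ := by
    have h := IsIso.hom_inv_id (j.stalkMap p)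
    have h2 := congrArg CommRingCat.Hom.hom h
    exact h2
  let N' : ModuleCat.{u} ((Spec (CommRingCat.of R)).presheaf.stalk p) :=
    (ModuleCat.restrictScalars ψ).obj N
  let M : ModuleCat.{u} R := (ModuleCat.restrictScalars (toStalkHom R p)).obj N'
  refine ⟨M, ⟨?_⟩⟩
  haveI : IsIso (pushStalkMap j p ((tilde.functor R).obj M)) := by
    rw [ConcreteCategory.isIso_iff_bijective]
    exact pushStalkMap_bijective j p j.isOpenEmbedding.isInducing _
  haveI := isIso_counit_of_isLocalization (toStalkHom R p) _ (isLocalization_toStalkHom R p) N'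
  exact asIso (pushStalkMap j p ((tilde.functor R).obj M)) ≪≫
    (resStalk j p).mapIso ((tildeStalkIso R p).app M ≪≫
      asIso ((ModuleCat.extendRestrictScalarsAdj.{u} (toStalkHom R p)).counit.app N')) ≪≫
    ((ModuleCat.restrictScalarsComp' φ ψ _ rfl).symm ≪≫
      ModuleCat.restrictScalarsId' _ hψφ).app N

/-- **every module over a local ring of a quasi-separated scheme is the stalk of a
quasi-coherent module** -/
theorem exists_qcoh_stalk_iso [QuasiSeparatedSpace X] (x : X)
    (N : ModuleCat.{u} (X.presheaf.stalk x)) :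
    ∃ F : X.Modules, F.IsQuasicoherent ∧ Nonempty ((stalkFunctor x).obj F ≅ N) := by
  obtain ⟨_, ⟨U, hU, rfl⟩, hxU, -⟩ :=
    X.isBasis_affineOpens.exists_subset_of_mem_open (Set.mem_univ x) isOpen_univ
  have hU' : IsAffineOpen U := hU
  have hx : hU'.fromSpec (hU'.primeIdealOf ⟨x, hxU⟩) = x := hU'.fromSpec_primeIdealOf ⟨x, hxU⟩
  generalize hU'.primeIdealOf ⟨x, hxU⟩ = p at hx
  subst hx
  obtain ⟨M, hM⟩ := exists_stalk_iso_of_openImm Γ(X, U) hU'.fromSpec p N
  exact ⟨_, @Groth.Agent.H8.isQuasicoherent_pushforward_of_qcqs _ _ hU'.fromSpec _ _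
    ((tilde.functor Γ(X, U)).obj M) (isQuasicoherent_tilde _ M), hM⟩

end Groth.Agent.H5.DQ.StalkRealize
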