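import Groth.Agent.H5.DQ.LpullQCoh
import Groth.Agent.H5.PerfectTensor
import Groth.Agent.H16.QCohSigma
import Groth.Agent.H71.QCoh.TensorQCohLite

/-!
# The derived tensor product preserves `D_QCoh`
-/

set_option autoImplicit false
set_option linter.style.haveILetI false

universe u

open CategoryTheory Category Limits DerivedCategory AlgebraicGeometry

attribute [local instance] HasDerivedCategory.standard

namespace Groth.Agent.H5.DQ.TensorQCoh

open Scheme.Modules Groth.Agent.H5.DQ.Main Groth.Agent.H5.DQ.LpullQCoh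
  Groth.Agent.H5.PullbackTensor

attribute [local instance] Groth.Agent.H5.Lpull.hasLpull

section general

variable {X : Scheme.{u}}

/-- the cohomology of a complex of quasi-coherent modules is quasi-coherent -/
lemma isQuasicoherent_homology (C : CochainComplex X.Modules ℤ)
    (h : ∀ i, (C.X i).IsQuasicoherent) (n : ℤ) : (C.homology n).IsQuasicoherent := by
  let S := C.sc n
  have h1 : qc X S.X₁ := h _
  have h2 : qc X S.X₂ := h n
  have h3 : qc X S.X₃ := h _
  have hc : qc X S.cycles := (qc X).prop_of_isLimit_kernelFork S.cyclesIsKernel h2 h3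
  exact (qc X).prop_of_isColimit_cokernelCofork S.homologyIsCokernel h1 hc

lemma isQCohD_Q (C : CochainComplex X.Modules ℤ) (h : ∀ i, (C.X i).IsQuasicoherent) :
    DCoh.IsQCohD (DerivedCategory.Q.obj C) := by
  intro n
  haveI := isQuasicoherent_homology C h n
  exact Groth.Agent.H12.QCohAbelian.isQuasicoherent_of_iso (M := C.homology n)
    ((DerivedCategory.homologyFunctorFactors X.Modules n).app C).symm

/-- a countable (universe `0`) coproduct of quasi-coherent modules is quasi-coherent -/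
lemma isQuasicoherent_of_isColimit_cofan {J : Type} (M : J → X.Modules) (c : Cofan M)
    (hc : IsColimit c) (h : ∀ j, (M j).IsQuasicoherent) : c.pt.IsQuasicoherent := by
  let M' : ULift.{u} J → X.Modules := fun j => M j.down
  haveI h' : (∐ M').IsQuasicoherent :=
    Groth.Agent.H16.QCohSigma.isQuasicoherent_sigma M' (fun j => h j.down)
  let c' : Cofan M' := Cofan.mk c.pt (fun j => c.inj j.down)
  have hc' : IsColimit c' :=
    Cofan.IsColimit.mk c' (fun s => Cofan.IsColimit.desc hc (fun j => s.inj ⟨j⟩))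
      (fun s j => by
        change c.inj j.down ≫ _ = _
        rw [Cofan.IsColimit.fac])
      (fun s m hm => by
        refine Cofan.IsColimit.hom_ext hc _ _ (fun j => ?_)
        rw [Cofan.IsColimit.fac]
        exact hm ⟨j⟩)
  exact Groth.Agent.H12.QCohAbelian.isQuasicoherent_of_iso (M := ∐ M')
    ((coproductIsCoproduct M').coconePointUniqueUpToIso hc')

/-- the terms of the tensor product of two complexes of quasi-coherent modules are
quasi-coherent -/
lemma isQuasicoherent_tensorCx_X (K L : CochainComplex X.Modules ℤ)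
    (hK : ∀ i, (K.X i).IsQuasicoherent) (hL : ∀ i, (L.X i).IsQuasicoherent) (n : ℤ) :
    (((DCoh.tensorCx.obj K).obj L).X n).IsQuasicoherent := by
  let π := ComplexShape.π (ComplexShape.up ℤ) (ComplexShape.up ℤ) (ComplexShape.up ℤ)
  let G : GradedObject (ℤ × ℤ) X.Modules :=
    ((((DCoh.tensorBi (X := X)).mapBifunctorHomologicalComplex _ _).obj K).obj L).toGradedObject
  refine isQuasicoherent_of_isColimit_cofan (G.mapObjFun π n) (G.cofanMapObj π n)
    (G.isColimitCofanMapObj π n) ?_
  rintro ⟨⟨p, q⟩, hpq⟩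
  haveI := hK p
  haveI := hL q
  exact (Groth.Agent.H71.QCohLite.isQuasicoherent_tensorMod (K.X p) (L.X q) :
    (CohB1.tensorMod (K.X p) (L.X q)).IsQuasicoherent)

end general

section Affine

variable (R : CommRingCat.{u})

/-- every object of `D_QCoh(Spec R)` is represented by a complex `M^~` with `M^~` K-flat -/
lemma exists_tilde_kflat (B : DCoh.D (Spec R)) (hB : DCoh.IsQCohD B) :
    ∃ N : CochainComplex (ModuleCat.{u} R) ℤ,
      Groth.Agent.H5.Lpull.kfl
        (((tilde.functor R).mapHomologicalComplex (ComplexShape.up ℤ)).obj N) ∧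
      Nonempty (DerivedCategory.Q.obj
        (((tilde.functor R).mapHomologicalComplex (ComplexShape.up ℤ)).obj N) ≅ B) := by
  haveI := Groth.Agent.H47.tilde_preservesFiniteLimits R
  obtain ⟨N, ⟨eN⟩⟩ := ((main R).2.2 B).1 hB
  let N₀ := DerivedCategory.Q.objPreimage N
  let eN₀ : DerivedCategory.Q.obj N₀ ≅ N := DerivedCategory.Q.objObjPreimageIso N
  obtain ⟨N₁, q, hq, -, hN₁'⟩ := Groth.Agent.H5.TildeFlat.exists_resolution R N₀
  have : IsIso (DerivedCategory.Q.map q) := by
    rw [DerivedCategory.isIso_Q_map_iff_quasiIso]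
    exact hq
  exact ⟨N₁, hN₁', ⟨((tilde.functor R).mapDerivedCategoryFactors.app N₁).symm ≪≫
    (DCoh.tildeD R).mapIso (asIso (DerivedCategory.Q.map q) ≪≫ eN₀) ≪≫ eN⟩⟩

theorem isQCohD_Q_tensorCx_Spec (A B : CochainComplex (Spec R).Modules ℤ)
    (hA : DCoh.IsKFlat A) (hqA : DCoh.IsQCohD (DerivedCategory.Q.obj A))
    (hqB : DCoh.IsQCohD (DerivedCategory.Q.obj B)) :
    DCoh.IsQCohD (DerivedCategory.Q.obj ((DCoh.tensorCx.obj A).obj B)) := by
  obtain ⟨N, hN, ⟨eN⟩⟩ := exists_tilde_kflat R _ hqB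
  obtain ⟨M, hM, ⟨eM⟩⟩ := exists_tilde_kflat R _ hqA
  let Φ := (tilde.functor R).mapHomologicalComplex (ComplexShape.up ℤ)
  let s1 := Groth.Agent.H5.PerfectTensor.tensorLeftIso A hA eN.symm
  let s2 := Groth.Agent.H5.PerfectTensor.tensorRightIso (Φ.obj N) hN.1 eM.symm
  refine isQCohD_of_iso (s1 ≪≫ s2).symm (isQCohD_Q _ (fun n => ?_))
  refine isQuasicoherent_tensorCx_X _ _ (fun i => ?_) (fun i => ?_) n
  · exact (inferInstance : ((tilde.functor R).obj (M.X i)).IsQuasicoherent)
  · exact (inferInstance : ((tilde.functor R).obj (N.X i)).IsQuasicoherent)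

end Affine

section OpenImm

variable {W X : Scheme.{u}} (a : W ⟶ X) [IsOpenImmersion a]

/-- derived pullback along an open immersion, computed by termwise pullback -/
theorem nonempty_Lpull_openImm_pullCx_iso (G : CochainComplex X.Modules ℤ) :
    Nonempty ((DCoh.Lpull a).obj (DerivedCategory.Q.obj G) ≅
      DerivedCategory.Q.obj (pullCx a G)) := by
  obtain ⟨o⟩ := Groth.Agent.H5.PointSplit.nonempty_Lpull_openImm_iso a G
  exact ⟨o ≪≫ DerivedCategory.Q.mapIso ((NatIso.mapHomologicalComplex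
    (restrictFunctorIsoPullback a) (ComplexShape.up ℤ)).app G)⟩

end OpenImm

/-- **`E ⊗^L F ∈ D_QCoh` for `E, F ∈ D_QCoh`.** -/
theorem isQCohD_LTensorCx (X : Scheme.{u}) (F : CochainComplex X.Modules ℤ)
    (hF : DCoh.IsQCohD (DCoh.toD X F)) [DCoh.HasLTensorCx F]
    (E : DCoh.D X) (hE : DCoh.IsQCohD E) : DCoh.IsQCohD ((DCoh.LTensorCx F).obj E) := by
  let E₀ := DerivedCategory.Q.objPreimage E
  let eE₀ : DerivedCategory.Q.obj E₀ ≅ E := DerivedCategory.Q.objObjPreimageIso E
  obtain ⟨P, q, hq, hP, -⟩ := Groth.Agent.H5.LpullComp.exists_resolution (𝟙 X) E₀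
  have : IsIso (DerivedCategory.Q.map q) := by
    rw [DerivedCategory.isIso_Q_map_iff_quasiIso]
    exact hq
  let eP : DerivedCategory.Q.obj P ≅ E := asIso (DerivedCategory.Q.map q) ≪≫ eE₀
  have hder : (DCoh.LTensorCx F).IsLeftDerivedFunctor
      ((DCoh.tensorCxQ F).totalLeftDerivedCounit DerivedCategory.Q
        (HomologicalComplex.quasiIso X.Modules (ComplexShape.up ℤ)))
      (HomologicalComplex.quasiIso X.Modules (ComplexShape.up ℤ)) := inferInstance
  have hc : IsIso (((DCoh.tensorCxQ F).totalLeftDerivedCounit DerivedCategory.Q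
      (HomologicalComplex.quasiIso X.Modules (ComplexShape.up ℤ))).app P) :=
    @Groth.Agent.H45.LDer.isIso_counit_of_isKFlat _ _ _ X.sheaf F (DCoh.LTensorCx F) _ hder P
      hP.1
  let eT : (DCoh.LTensorCx F).obj E ≅ DerivedCategory.Q.obj ((DCoh.tensorCx.obj P).obj F) :=
    (DCoh.LTensorCx F).mapIso eP.symm ≪≫ asIso (((DCoh.tensorCxQ F).totalLeftDerivedCounit
      DerivedCategory.Q (HomologicalComplex.quasiIso X.Modules (ComplexShape.up ℤ))).app P)
  refine isQCohD_of_iso eT.symm (isQCohD_of_Lpull_openImm _ (fun y => ?_))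
  obtain ⟨U, hU, hyU, -⟩ := exists_isAffineOpen_mem_and_subset
    (x := y) (U := (⊤ : X.Opens)) trivial
  let a := hU.fromSpec
  refine ⟨_, a, inferInstance, ?_, ?_⟩
  · rw [hU.range_fromSpec]
    exact hyU
  · obtain ⟨o⟩ := nonempty_Lpull_openImm_pullCx_iso a ((DCoh.tensorCx.obj P).obj F)
    obtain ⟨oP⟩ := nonempty_Lpull_openImm_pullCx_iso a P
    obtain ⟨oF⟩ := nonempty_Lpull_openImm_pullCx_iso a F
    have hA : DCoh.IsKFlat (pullCx a P) := Groth.Agent.S0952.result a P hP.1
    have hqA : DCoh.IsQCohD (DerivedCategory.Q.obj (pullCx a P)) :=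
      isQCohD_of_iso ((DCoh.Lpull a).mapIso eP.symm ≪≫ oP) (isQCohD_Lpull_openImm a E hE)
    have hqB : DCoh.IsQCohD (DerivedCategory.Q.obj (pullCx a F)) :=
      isQCohD_of_iso oF (isQCohD_Lpull_openImm a _ hF)
    have h1 := isQCohD_Q_tensorCx_Spec _ (pullCx a P) (pullCx a F) hA hqA hqB
    exact isQCohD_of_iso (o ≪≫ DerivedCategory.Q.mapIso (pullbackTotIso a P F)).symm h1

end Groth.Agent.H5.DQ.TensorQCoh
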