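import Groth.Agent.H5.DQ.StalkRealize
import Groth.Agent.H5.StalkTorAmp2
import Groth.Agent.H5.FlatCokerScheme
import Groth.Agent.H5.KFlatSchemeTriangle
import Groth.Agent.H35.PolyTor

/-!
# Tor amplitude on a quasi-separated scheme can be tested on quasi-coherent modules
-/

set_option autoImplicit false
universe u
open CategoryTheory CategoryTheory.Limits AlgebraicGeometry TopologicalSpace Opposite
  MonoidalCategory

attribute [local instance] HasDerivedCategory.standard

namespace Groth.Agent.H5.DQ.TorAmpQCoh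

open Groth.Agent.H5.Stalk Groth.Agent.H5.Stalk.Tensor Groth.Agent.H5.StalkTorAmp

variable {X : Scheme.{u}}

/-- the stalk of `- ⊗ F` is `(-)_x ⊗ F_x` -/
noncomputable def stalkTensorRightIso (F : X.Modules) (x : X) :
    DCoh.tensorRightMod F ⋙ stalkFunctor x ≅
      stalkFunctor x ⋙ MonoidalCategory.tensorRight ((stalkFunctor x).obj F) :=
  NatIso.ofComponents (fun G => stalkTensorIso x G F)
    (fun {G G'} f => stalkTensorIso_hom_naturality_left x f F)

/-- exactness of `K ⊗ F` in degree `i` gives exactness of `K_x ⊗ F_x` in degree `i` -/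
theorem tensExactAt_stalk (K : CochainComplex X.Modules ℤ) (F : X.Modules) (x : X) (i : ℤ)
    (h : (((DCoh.tensorRightMod F).mapHomologicalComplex (ComplexShape.up ℤ)).obj K).ExactAt i) :
    Groth.Agent.H35.KF.TensExactAt ((sCx x).obj K) ((stalkFunctor x).obj F) i := by
  have h1 : ((K.sc' (i - 1) i (i + 1)).map (DCoh.tensorRightMod F)).Exact :=
    (HomologicalComplex.exactAt_iff' _ (i - 1) i (i + 1) (by simp) (by simp)).1 h
  have h2 : (((K.sc' (i - 1) i (i + 1)).map (DCoh.tensorRightMod F)).map (stalkFunctor x)).Exact :=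
    h1.map (stalkFunctor x)
  exact (ShortComplex.exact_iff_of_iso
    ((K.sc' (i - 1) i (i + 1)).mapNatIso (stalkTensorRightIso F x))).1 h2

/-- **on a quasi-separated scheme, vanishing of `H^i(E ⊗^L F)` outside `[a, b]` for all
quasi-coherent `F` implies flat amplitude in `[a, b]`** -/
theorem hasFlatAmplitudeIn_of_qcoh_test [QuasiSeparatedSpace X] (E : DCoh.D X) (a b : ℤ)
    (h : ∀ (F : X.Modules), Coh.IsQCoh F → ∀ [DCoh.HasLTensorMod F] (i : ℤ), (i < a ∨ b < i) →
      IsZero (DCoh.HD ((DCoh.LTensorMod F).obj E) i)) :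
    DCoh.HasFlatAmplitudeIn a b E := by
  let K := DerivedCategory.Q.objPreimage E
  have eK : DCoh.toD X K ≅ E := DerivedCategory.Q.objObjPreimageIso E
  obtain ⟨P, q, hP, hq⟩ := (KFlatScheme.hyp (X := X)).res K
  have : IsIso (DerivedCategory.Q.map q) := by
    rw [DerivedCategory.isIso_Q_map_iff_quasiIso]
    exact hq
  let eP : DCoh.toD X P ≅ E := asIso (DerivedCategory.Q.map q) ≪≫ eK
  have h1 : DCoh.HasFlatAmplitudeIn a b (DCoh.toD X P) := by
    apply StalkTorAmp2.hasFlatAmplitudeIn_of_stalks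
    intro x
    refine (Groth.Agent.H35.PolyTor.hasTorAmplitudeIn_iff_tensExactAt ((sCx x).obj P)
      (KFlat.isKFlat_stalk P hP x) _ (Iso.refl _) a b).2 (fun N i hi => ?_)
    obtain ⟨F, hF, ⟨e⟩⟩ := StalkRealize.exists_qcoh_stalk_iso x N
    haveI := KFlatScheme.hasLTensorMod F
    have h0 : IsZero (DCoh.HD ((DCoh.LTensorMod F).obj (DCoh.toD X P)) i) :=
      (h F hF i hi).of_iso ((DerivedCategory.homologyFunctor X.Modules i).mapIso
        ((DCoh.LTensorMod F).mapIso eP))
    exact (Groth.Agent.H35.KF.tensExactAt_iff_of_iso _ e i).1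
      (tensExactAt_stalk P F x i (FlatCokerScheme.exactAt_of_isZero_HD F P hP i h0))
  obtain ⟨E', hE', hfl, ⟨i⟩⟩ := h1
  exact ⟨E', hE', hfl, ⟨i ≪≫ eP⟩⟩

end Groth.Agent.H5.DQ.TorAmpQCoh
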